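import Mathlib

/-!
# The Euler characteristic of a two term cotangent complex

For two formally smooth extensions of the same algebra whose cotangent complexes consist of finite free
modules, the difference of the ranks is the same.
-/

set_option autoImplicit false

universe u

open TensorProduct

namespace Groth.Agent.H1VRD

section Field

variable {k N M N' M' : Type*} [Field k] [AddCommGroup N] [Module k N] [AddCommGroup M] [Module k M]
  [AddCommGroup N'] [Module k N'] [AddCommGroup M'] [Module k M']
  [FiniteDimensional k N] [FiniteDimensional k M] [FiniteDimensional k N'] [FiniteDimensional k M']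

theorem finrank_ker_coker_le (d : N →ₗ[k] M) (d' : N' →ₗ[k] M') (u : N →ₗ[k] N') (U : M →ₗ[k] M')
    (v : N' →ₗ[k] N) (V : M' →ₗ[k] M) (hu : d' ∘ₗ u = U ∘ₗ d) (hv : d ∘ₗ v = V ∘ₗ d') (h : M →ₗ[k] N)
    (h1 : v ∘ₗ u - LinearMap.id = h ∘ₗ d) (h0 : V ∘ₗ U - LinearMap.id = d ∘ₗ h) :
    Module.finrank k (LinearMap.ker d) ≤ Module.finrank k (LinearMap.ker d') ∧
      Module.finrank k (M ⧸ LinearMap.range d) ≤ Module.finrank k (M' ⧸ LinearMap.range d') := by
  constructor
  · refine LinearMap.finrank_le_finrank_of_injective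
      (f := (u.comp (LinearMap.ker d).subtype).codRestrict (LinearMap.ker d') fun x => ?_) ?_
    · show d' (u x.1) = 0
      have := LinearMap.congr_fun hu x.1
      simp only [LinearMap.comp_apply] at this
      rw [this, LinearMap.mem_ker.1 x.2, map_zero]
    · refine (injective_iff_map_eq_zero _).2 fun x hx => Subtype.ext ?_
      have hx' : u x.1 = 0 := congrArg Subtype.val hx
      have := LinearMap.congr_fun h1 x.1
      simp only [LinearMap.sub_apply, LinearMap.comp_apply, LinearMap.id_apply, hx', map_zero, zero_sub,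
        LinearMap.mem_ker.1 x.2] at this
      exact neg_eq_zero.1 this
  · refine LinearMap.finrank_le_finrank_of_injective
      (f := (LinearMap.range d).mapQ (LinearMap.range d') U ?_) ?_
    · rintro _ ⟨x, rfl⟩
      exact ⟨u x, LinearMap.congr_fun hu x⟩
    · refine (injective_iff_map_eq_zero _).2 fun x hx => ?_
      obtain ⟨m, rfl⟩ := Submodule.Quotient.mk_surjective _ x
      rw [Submodule.mapQ_apply, Submodule.Quotient.mk_eq_zero] at hx
      obtain ⟨y, hy⟩ := hx
      rw [Submodule.Quotient.mk_eq_zero]
      refine ⟨v y - h m, ?_⟩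
      have h0' := LinearMap.congr_fun h0 m
      have hv' := LinearMap.congr_fun hv y
      simp only [LinearMap.sub_apply, LinearMap.comp_apply, LinearMap.id_apply] at h0' hv'
      rw [map_sub, hv', hy, ← h0', sub_sub_cancel]

theorem finrank_sub_eq_of_homotopy (d : N →ₗ[k] M) (d' : N' →ₗ[k] M') (u : N →ₗ[k] N') (U : M →ₗ[k] M')
    (v : N' →ₗ[k] N) (V : M' →ₗ[k] M) (hu : d' ∘ₗ u = U ∘ₗ d) (hv : d ∘ₗ v = V ∘ₗ d')
    (h : M →ₗ[k] N) (h1 : v ∘ₗ u - LinearMap.id = h ∘ₗ d) (h0 : V ∘ₗ U - LinearMap.id = d ∘ₗ h)
    (h' : M' →ₗ[k] N') (h1' : u ∘ₗ v - LinearMap.id = h' ∘ₗ d') (h0' : U ∘ₗ V - LinearMap.id = d' ∘ₗ h') :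
    (Module.finrank k M : ℤ) - Module.finrank k N = (Module.finrank k M' : ℤ) - Module.finrank k N' := by
  have a := finrank_ker_coker_le d d' u U v V hu hv h h1 h0
  have b := finrank_ker_coker_le d' d v V u U hv hu h' h1' h0'
  have := d.finrank_range_add_finrank_ker
  have := d'.finrank_range_add_finrank_ker
  have := (LinearMap.range d).finrank_quotient_add_finrank
  have := (LinearMap.range d').finrank_quotient_add_finrank
  omega

end Field

open Algebra

variable {R A : Type u} [CommRing R] [CommRing A] [Algebra R A]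

/-- Two formally smooth extensions have the same Euler characteristic. -/
theorem rank_sub_eq [IsLocalRing A] (P₁ P₂ : Extension.{u} R A) [FormallySmooth R P₁.Ring]
    [FormallySmooth R P₂.Ring] {a b a' b' : ℕ} (ea : Module.Basis (Fin a) A P₁.CotangentSpace)
    (eb : Module.Basis (Fin b) A P₁.Cotangent) (ea' : Module.Basis (Fin a') A P₂.CotangentSpace)
    (eb' : Module.Basis (Fin b') A P₂.Cotangent) : (a : ℤ) - b = (a' : ℤ) - b' := by
  let Q₁ := P₁.infinitesimal
  let Q₂ := P₂.infinitesimal
  let f : Q₁.Hom Q₂ := Extension.homInfinitesimal P₁ P₂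
  let g : Q₂.Hom Q₁ := Extension.homInfinitesimal P₂ P₁
  let K := IsLocalRing.ResidueField A
  let a₁ := ea.map (LinearEquiv.ofBijective _ (Extension.CotangentSpace.map_toInfinitesimal_bijective P₁))
  let b₁ := eb.map (LinearEquiv.ofBijective _ (Extension.Cotangent.map_toInfinitesimal_bijective P₁))
  let a₂ := ea'.map (LinearEquiv.ofBijective _ (Extension.CotangentSpace.map_toInfinitesimal_bijective P₂))
  let b₂ := eb'.map (LinearEquiv.ofBijective _ (Extension.Cotangent.map_toInfinitesimal_bijective P₂))
  let A₁ := a₁.baseChange K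
  let B₁ := b₁.baseChange K
  let A₂ := a₂.baseChange K
  let B₂ := b₂.baseChange K
  haveI : FiniteDimensional K (K ⊗[A] Q₁.CotangentSpace) := Module.Finite.of_basis A₁
  haveI : FiniteDimensional K (K ⊗[A] Q₁.Cotangent) := Module.Finite.of_basis B₁
  haveI : FiniteDimensional K (K ⊗[A] Q₂.CotangentSpace) := Module.Finite.of_basis A₂
  haveI : FiniteDimensional K (K ⊗[A] Q₂.Cotangent) := Module.Finite.of_basis B₂
  have key := finrank_sub_eq_of_homotopy (Q₁.cotangentComplex.baseChange K) (Q₂.cotangentComplex.baseChange K)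
    ((Extension.Cotangent.map f).baseChange K) ((Extension.CotangentSpace.map f).baseChange K)
    ((Extension.Cotangent.map g).baseChange K) ((Extension.CotangentSpace.map g).baseChange K)
    ?_ ?_ (((g.comp f).sub (Extension.Hom.id Q₁)).baseChange K) ?_ ?_
    (((f.comp g).sub (Extension.Hom.id Q₂)).baseChange K) ?_ ?_
  · rwa [Module.finrank_eq_card_basis A₁, Module.finrank_eq_card_basis B₁, Module.finrank_eq_card_basis A₂,
      Module.finrank_eq_card_basis B₂, Fintype.card_fin, Fintype.card_fin, Fintype.card_fin, Fintype.card_fin] at key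
  · rw [← LinearMap.baseChange_comp, ← LinearMap.baseChange_comp]
    exact congrArg (LinearMap.baseChange K) (LinearMap.ext fun x => (Extension.CotangentSpace.map_cotangentComplex f x).symm)
  · rw [← LinearMap.baseChange_comp, ← LinearMap.baseChange_comp]
    exact congrArg (LinearMap.baseChange K) (LinearMap.ext fun x => (Extension.CotangentSpace.map_cotangentComplex g x).symm)
  · rw [← LinearMap.baseChange_comp, ← LinearMap.baseChange_id, ← LinearMap.baseChange_sub, ← LinearMap.baseChange_comp]
    refine congrArg (LinearMap.baseChange K) ?_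
    rw [← Extension.Cotangent.map_sub_map, Extension.Cotangent.map_id, Extension.Cotangent.map_comp]
    rfl
  · rw [← LinearMap.baseChange_comp, ← LinearMap.baseChange_id, ← LinearMap.baseChange_sub, ← LinearMap.baseChange_comp]
    refine congrArg (LinearMap.baseChange K) ?_
    refine Eq.trans ?_ (Extension.CotangentSpace.map_sub_map (g.comp f) (Extension.Hom.id Q₁))
    rw [Extension.CotangentSpace.map_id, Extension.CotangentSpace.map_comp]
    rfl
  · rw [← LinearMap.baseChange_comp, ← LinearMap.baseChange_id, ← LinearMap.baseChange_sub, ← LinearMap.baseChange_comp]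
    refine congrArg (LinearMap.baseChange K) ?_
    rw [← Extension.Cotangent.map_sub_map, Extension.Cotangent.map_id, Extension.Cotangent.map_comp]
    rfl
  · rw [← LinearMap.baseChange_comp, ← LinearMap.baseChange_id, ← LinearMap.baseChange_sub, ← LinearMap.baseChange_comp]
    refine congrArg (LinearMap.baseChange K) ?_
    refine Eq.trans ?_ (Extension.CotangentSpace.map_sub_map (f.comp g) (Extension.Hom.id Q₂))
    rw [Extension.CotangentSpace.map_id, Extension.CotangentSpace.map_comp]
    rfl

end Groth.Agent.H1VRD
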