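import Groth.Agent.H1Omega.Exists
import Groth.Agent.ExtShX.FundCon
import Groth.Agent.KZ.Basic
import Groth.Agent.DvrFree.Main
import Groth.Agent.KFlatLib.Perfect.LocFree
import Groth.Agent.Synt29.OmegaRestrict
import Groth.Agent.GrpOmega.Section
import Groth.Agent.QCoh.RpushExchange
import Groth.Agent.S5019
import Groth.Agent.S8656
import Groth.Agent.S9370
import Groth.Agent.S9371
import Groth.Agent.S9386
import Groth.Agent.S9711
import Groth.Prelude.Def_KRR

/-!
# The cotangent class of two factorisations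
-/

set_option autoImplicit false
set_option backward.isDefEq.respectTransparency false
set_option backward.isDefEq.respectTransparency.types false
set_option linter.style.haveILetI false
set_option maxHeartbeats 1000000

universe u

open CategoryTheory CategoryTheory.Limits AlgebraicGeometry TopologicalSpace Opposite

noncomputable section

namespace Groth.Agent.H1VRD

open Groth.Agent

/-- The conormal sheaf of a Koszul regular closed immersion is finite locally free. -/
theorem isFinLocFree_conormal {X P : Scheme.{u}} (ι : X ⟶ P) [IsClosedImmersion ι]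
    (h : RegImm.IsRegularImmersion .koszul ι) : FlatMod.IsFinLocFree (Omega.conormal ι) := by
  intro a
  obtain ⟨U, haU, -, rs, hrs, hker⟩ := h.2 a
  let f : Fin rs.length → Γ(P, U.1) := rs.get
  have hrange : Set.range f = {y | y ∈ rs} := Set.ext fun y => by
    simp [f, List.mem_iff_get]
  have hker' : RingHom.ker (ι.app U.1).hom = Ideal.span (Set.range f) := by rw [hker, hrange]
  have hex : WiebeLib.IsExact f :=
    WiebeLib.isExact_of_isKoszulRegularSeq _ (by rw [List.ofFn_get]; exact hrs)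
  let c : ExtShX.Fund.Chart ι rs.length := by
    refine ⟨U.1, U.2, f, hex, fun x hx => ?_, fun x hx => ?_, fun i => ?_⟩
    · letI : Algebra Γ(P, U.1) (P.presheaf.stalk x) := P.presheaf.algebra_section_stalk ⟨x, hx⟩
      haveI := U.2.isLocalization_stalk ⟨x, hx⟩
      haveI : Module.Flat Γ(P, U.1) (P.presheaf.stalk x) :=
        IsLocalization.flat _ (U.2.primeIdealOf ⟨x, hx⟩).asIdeal.primeCompl
      exact WiebeLib.isExact_map hex
    · rw [show (Set.range fun i => P.presheaf.germ U.1 x hx (f i)) = (P.presheaf.germ U.1 x hx).hom '' Set.range f from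
        Set.range_comp _ f, ← Ideal.map_span, ← hker']
      by_cases hr : x ∈ Set.range ι
      · obtain ⟨b, rfl⟩ := hr
        rw [ExtShX.Fund.Jst_eq_ker, RegNear.ker_stalkMap ι b U.2 hx]
      · rw [ExtShX.Fund.Jst_eq_top ι hr, eq_comm, Ideal.eq_top_iff_one]
        let V : P.Opens := U.1 ⊓ ⟨(Set.range ι)ᶜ, ι.isClosedEmbedding.isClosed_range.isOpen_compl⟩
        obtain ⟨g, hgV, hxg⟩ := U.2.exists_basicOpen_le (V := V) ⟨x, hx, hr⟩ hx
        have h0 : X.basicOpen (ι.app U.1 g) = ⊥ := by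
          rw [← Scheme.preimage_basicOpen]
          exact eq_bot_iff.2 fun b hb => (hgV hb).2 ⟨b, rfl⟩
        obtain ⟨m, hm⟩ := (Scheme.isNilpotent_iff_basicOpen_eq_bot_of_isCompact (U.2.preimage ι).isCompact _).2 h0
        have hu : IsUnit (P.presheaf.germ U.1 x hx g) := (P.mem_basicOpen g x hx).1 hxg
        have hmem : P.presheaf.germ U.1 x hx (g ^ m) ∈
            (RingHom.ker (ι.app U.1).hom).map (P.presheaf.germ U.1 x hx).hom :=
          Ideal.mem_map_of_mem _ (RingHom.mem_ker.2 (by rw [map_pow]; exact hm))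
        rw [map_pow] at hmem
        exact (Ideal.eq_top_iff_one _).1 (Ideal.eq_top_of_isUnit_mem _ hmem (hu.pow m))
    · exact RingHom.mem_ker.1 (hker'.ge (Ideal.subset_span ⟨i, rfl⟩))
  exact ⟨ι ⁻¹ᵁ U.1, rs.length, haU, H23.Frame.exists_iso_of_frame _ (ExtShX.Fund.coSec_isFrame ι c)⟩

/-- The pullback of the differentials of a smooth morphism is finite locally free. -/
theorem isFinLocFree_pullback_omega {X V Y : Scheme.{u}} (g : V ⟶ Y) [Smooth g] (i : X ⟶ V) (Ω : V.Modules)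
    (d : OmegaSh.Der g Ω) (hd : OmegaSh.IsUniversal d) :
    FlatMod.IsFinLocFree ((Scheme.Modules.pullback i).obj Ω) :=
  KFlatLib.isFinLocFree_pullback i fun x => by
    obtain ⟨U, n, hx, e, -⟩ := S5019.result g Ω d hd x
    exact ⟨U, n, hx, e⟩

theorem cl_iso {X : Scheme.{u}} {M N : X.Modules} (e : M ≅ N) (hM : FlatMod.IsFinLocFree M)
    (hN : FlatMod.IsFinLocFree N) : KRR.cl X M = KRR.cl X N :=
  KZ.clSub_iso _ e hM hN (QCoh.isZero_freeMod_zero' X) (DvrFree.isFinLocFree_freeMod X 0)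

/-- A factorisation refined by a second one. -/
theorem cl_conormal_add {X Y V V' P : Scheme.{u}} (f : X ⟶ Y) (hf : ∀ x : X, Synt.IsKoszulAt f x)
    (g : V ⟶ Y) [Smooth g] (i : X ⟶ V) [IsClosedImmersion i] (hi : i ≫ g = f)
    (g' : V' ⟶ Y) [Smooth g'] (i' : X ⟶ V') (Ω' : V'.Modules) (d' : OmegaSh.Der g' Ω') (hd' : OmegaSh.IsUniversal d')
    (a : P ⟶ V) (b : P ⟶ V') (hsq : IsPullback b a g' g) (W : P.Opens) (i₁ : X ⟶ W) [IsClosedImmersion i₁]
    (ha : i₁ ≫ W.ι ≫ a = i) (hb : i₁ ≫ W.ι ≫ b = i') :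
    KRR.cl X (Omega.conormal i₁) = KRR.cl X (Omega.conormal i) + KRR.cl X ((Scheme.Modules.pullback i').obj Ω') := by
  classical
  haveI : Smooth a := MorphismProperty.of_isPullback hsq ‹Smooth g'›
  obtain ⟨ΩP, dP, hdP⟩ := H1Omega.exists_isUniversal a
  obtain ⟨c, hc, -⟩ := S9370.result g' a b g hsq.w.symm Ω' d' hd' ΩP dP hdP
  haveI := S9386.result g' g b a hsq Ω' d' hd' ΩP dP hdP c hc
  let d₁ := Synt29.OmegaStalk.restrictDer W.ι dP
  have hd₁ : OmegaSh.IsUniversal d₁ := Synt29.OmegaStalk.isUniversal_restrictDer W.ι hdP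
  obtain ⟨ψ, hψ, -⟩ := S9371.result i₁ i (W.ι ≫ a) (𝟙 X) (by rw [Category.id_comp, ha])
  obtain ⟨φ, hφ⟩ := GrpOmega.exists_conormalDiff (W.ι ≫ a) i₁ _ d₁
  obtain ⟨w, hS⟩ := S9711.result (W.ι ≫ a) i₁ i ha _ d₁ hd₁ ψ hψ φ hφ
  have hi₁ : RegImm.IsRegularImmersion .koszul i₁ :=
    S8656.result f hf ((W.ι ≫ a) ≫ g) i₁ (by rw [← Category.assoc, ha, hi])
  have hN₁ := isFinLocFree_conormal i₁ hi₁
  have hN := isFinLocFree_conormal i (S8656.result f hf g i hi)
  have hN' : FlatMod.IsFinLocFree ((Scheme.Modules.pullback (𝟙 X)).obj (Omega.conormal i)) :=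
    KFlatLib.isFinLocFree_pullback (𝟙 X) hN
  have hΩ₁ : FlatMod.IsFinLocFree ((Scheme.Modules.pullback i₁).obj (ΩP.restrict W.ι)) :=
    isFinLocFree_pullback_omega (W.ι ≫ a) i₁ _ d₁ hd₁
  have h := KZ.clSub_ses (KRR.vbP X) hS hN' hN₁ hΩ₁
  refine h.trans (congrArg₂ (· + ·) (cl_iso ((Scheme.Modules.pullbackId X).app _) hN' hN) ?_)
  exact cl_iso ((Scheme.Modules.pullback i₁).mapIso ((Scheme.Modules.restrictFunctorIsoPullback W.ι).app ΩP) ≪≫
      (Scheme.Modules.pullbackComp i₁ W.ι).app ΩP ≪≫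
      (Scheme.Modules.pullback (i₁ ≫ W.ι)).mapIso (asIso c).symm ≪≫
      (Scheme.Modules.pullbackComp (i₁ ≫ W.ι) b).app Ω' ≪≫
      (Scheme.Modules.pullbackCongr (show (i₁ ≫ W.ι) ≫ b = i' by rw [Category.assoc, hb])).app Ω')
    hΩ₁ (isFinLocFree_pullback_omega g' i' Ω' d' hd')

end Groth.Agent.H1VRD
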