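import Groth.Agent.H1VRD.Alg
import Groth.Agent.S8679

/-!
# Extensions of a composite

An extension of `R → S` and an extension of `S → T` with kernel generated by an `H₁`-regular sequence give
an extension of `R → T` whose Euler characteristic is the sum.
-/

set_option autoImplicit false
set_option linter.style.haveILetI false
set_option maxHeartbeats 1000000

universe u

open Algebra TensorProduct

noncomputable section

namespace Groth.Agent.H1VRD

/-- The class of an element of the kernel, combinations included. -/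
theorem mk_sum {R T : Type u} [CommRing R] [CommRing T] [Algebra R T] (E : Extension.{u} R T) {ι : Type*}
    [Fintype ι] (v : ι → E.ker) (p : ι → E.Ring) :
    Extension.Cotangent.mk (∑ i, p i • v i) = ∑ i, algebraMap E.Ring T (p i) • Extension.Cotangent.mk (v i) := by
  rw [map_sum]
  exact Finset.sum_congr rfl fun i _ => by rw [map_smul, algebraMap_smul]

theorem mk_eq_zero {R T : Type u} [CommRing R] [CommRing T] [Algebra R T] (E : Extension.{u} R T) (x : E.ker) :
    Extension.Cotangent.mk x = 0 ↔ (x : E.Ring) ∈ E.ker ^ 2 := by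
  rw [← Ideal.toCotangent_eq_zero]
  exact ⟨fun h => congrArg Extension.Cotangent.val h, fun h => Extension.Cotangent.ext h⟩

/-- Generators of the kernel independent modulo its square give a basis of the cotangent module. -/
theorem exists_cot_basis {R T : Type u} [CommRing R] [CommRing T] [Algebra R T] (E : Extension.{u} R T) {m : ℕ}
    (v : Fin m → E.Ring) (hgen : E.ker = Ideal.span (Set.range v))
    (hind : ∀ c : Fin m → E.Ring, ∑ i, c i * v i ∈ E.ker ^ 2 → ∀ i, c i ∈ E.ker) :
    Nonempty (Module.Basis (Fin m) T E.Cotangent) := by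
  classical
  let w : Fin m → E.ker := fun i => ⟨v i, hgen ▸ Ideal.subset_span ⟨i, rfl⟩⟩
  refine ⟨Module.Basis.mk (v := fun i => Extension.Cotangent.mk (w i)) ?_ ?_⟩
  · rw [Fintype.linearIndependent_iff]
    intro c hc i
    choose p hp using fun j => E.algebraMap_surjective (c j)
    simp only [← hp] at hc
    rw [← mk_sum, mk_eq_zero] at hc
    have := hind p (by simpa [w] using hc) i
    rw [← hp]
    exact this
  · intro x _
    obtain ⟨⟨a, ha⟩, rfl⟩ := Extension.Cotangent.mk_surjective x
    obtain ⟨p, rfl⟩ := (Submodule.mem_span_range_iff_exists_fun E.Ring).1 (hgen ▸ ha)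
    have he : (⟨∑ i, p i • v i, ha⟩ : E.ker) = ∑ i, p i • w i := Subtype.ext (by simp [w])
    rw [he, mk_sum]
    exact sum_mem fun i _ => Submodule.smul_mem _ _ (Submodule.subset_span ⟨i, rfl⟩)

/-- A basis of the cotangent module lifts to generators of a finitely generated kernel. -/
theorem exists_gens {R T : Type u} [CommRing R] [CommRing T] [Algebra R T] (E : Extension.{u} R T)
    [IsLocalRing E.Ring] [Nontrivial T] (hfg : E.ker.FG) {m : ℕ} (b : Module.Basis (Fin m) T E.Cotangent) :
    ∃ g : Fin m → E.Ring, E.ker = Ideal.span (Set.range g) ∧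
      ∀ c : Fin m → E.Ring, ∑ i, c i * g i ∈ E.ker ^ 2 → ∀ i, c i ∈ E.ker := by
  classical
  choose w hw using fun i => Extension.Cotangent.mk_surjective (b i)
  refine ⟨fun i => w i, le_antisymm ?_ (Ideal.span_le.2 ?_), fun c hc i => ?_⟩
  · refine Submodule.le_of_le_smul_of_le_jacobson_bot (I := E.ker) hfg ?_ ?_
    · rw [IsLocalRing.jacobson_eq_maximalIdeal ⊥ bot_ne_top]
      exact IsLocalRing.le_maximalIdeal (RingHom.ker_ne_top _)
    · intro a ha
      choose p hp using fun i => E.algebraMap_surjective (b.repr (Extension.Cotangent.mk ⟨a, ha⟩) i)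
      have h := b.sum_repr (Extension.Cotangent.mk ⟨a, ha⟩)
      simp only [← hp, ← hw] at h
      rw [← mk_sum, ← sub_eq_zero, ← map_sub, mk_eq_zero] at h
      have hs : ∑ i, p i * (w i : E.Ring) ∈ Ideal.span (Set.range fun i => (w i : E.Ring)) :=
        sum_mem fun i _ => Ideal.mul_mem_left _ _ (Ideal.subset_span ⟨i, rfl⟩)
      have h2 : (∑ i, p i * (w i : E.Ring)) - a ∈ E.ker • E.ker := by
        rw [smul_eq_mul, ← sq]
        simpa using h
      refine Submodule.mem_sup.2 ⟨_, hs, -((∑ i, p i * (w i : E.Ring)) - a), neg_mem h2, by ring⟩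
  · rintro _ ⟨i, rfl⟩
    exact (w i).2
  · have h : Extension.Cotangent.mk (∑ j, c j • w j) = 0 := (mk_eq_zero E _).2 (by simpa using hc)
    rw [mk_sum] at h
    simp only [hw] at h
    exact Fintype.linearIndependent_iff.1 b.linearIndependent _ h i

/-- Relations among elements independent modulo the square stay in the extended ideal after flat base change. -/
theorem mem_map_of_relation {P P' : Type u} [CommRing P] [CommRing P'] [Algebra P P'] [Module.Flat P P']
    {I : Ideal P} {m : ℕ} {g : Fin m → P} (hind : ∀ c : Fin m → P, ∑ i, c i * g i ∈ I ^ 2 → ∀ i, c i ∈ I)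
    (a : Fin m → P') (ha : ∑ i, a i * algebraMap P P' (g i) = 0) (i : Fin m) :
    a i ∈ I.map (algebraMap P P') := by
  obtain ⟨k, r, y, hy, hr⟩ := Module.Flat.isTrivialRelation_of_sum_smul_eq_zero (f := g) (x := a)
    (R := P) (M := P') (by rw [← ha]; exact Finset.sum_congr rfl fun j _ => by rw [Algebra.smul_def, mul_comm])
  rw [hy i]
  refine sum_mem fun j _ => ?_
  rw [Algebra.smul_def]
  refine Ideal.mul_mem_right _ _ (Ideal.mem_map_of_mem _ (hind (fun l => r l j) ?_ i))
  rw [show ∑ l, r l j * g l = 0 by rw [← hr j]; exact Finset.sum_congr rfl fun l _ => mul_comm _ _]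
  exact zero_mem _

/-- The extension of a composite and the ranks of its cotangent complex. -/
theorem exists_comp {R S T : Type u} [CommRing R] [CommRing S] [CommRing T] [Algebra R S] [Algebra S T]
    [Algebra R T] [IsScalarTower R S T] [IsLocalRing T]
    (Eg : Extension.{u} R S) [IsLocalRing Eg.Ring] [FormallySmooth R Eg.Ring] (hfg : Eg.ker.FG) [Nontrivial S]
    {ag bg : ℕ} (eag : Module.Basis (Fin ag) S Eg.CotangentSpace) (ebg : Module.Basis (Fin bg) S Eg.Cotangent)
    (P' : Type u) [CommRing P'] [Algebra Eg.Ring P'] [Algebra R P'] [IsScalarTower R Eg.Ring P']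
    [Module.Flat Eg.Ring P'] [FormallySmooth Eg.Ring P'] {n : ℕ} (ω' : Module.Basis (Fin n) P' Ω[P'⁄Eg.Ring])
    (Ef : Extension.{u} S T) (π : P' →+* Ef.Ring) (hπ : Function.Surjective π)
    (hcomm : ∀ p, π (algebraMap Eg.Ring P' p) = algebraMap S Ef.Ring (algebraMap Eg.Ring S p))
    (hker : RingHom.ker π = Eg.ker.map (algebraMap Eg.Ring P'))
    {r : ℕ} (b : Fin r → Ef.Ring) (hb : CAlgX.IsH1Regular b) (hspan : Ef.ker = Ideal.span (Set.range b)) :
    ∃ EH : Extension.{u} R T, FormallySmooth R EH.Ring ∧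
      Nonempty (Module.Basis (Fin (ag + n)) T EH.CotangentSpace) ∧
      Nonempty (Module.Basis (Fin (bg + r)) T EH.Cotangent) ∧
      Nonempty (Module.Basis (Fin r) T Ef.Cotangent) := by
  classical
  letI : Algebra P' T := ((algebraMap Ef.Ring T).comp π).toAlgebra
  haveI : IsScalarTower R P' T := IsScalarTower.of_algebraMap_eq fun x => by
    show algebraMap R T x = algebraMap Ef.Ring T (π (algebraMap R P' x))
    rw [IsScalarTower.algebraMap_apply R Eg.Ring P', hcomm, ← IsScalarTower.algebraMap_apply R Eg.Ring S,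
      ← IsScalarTower.algebraMap_apply S Ef.Ring T, ← IsScalarTower.algebraMap_apply R S T]
  have hsurj : Function.Surjective (algebraMap P' T) := Ef.algebraMap_surjective.comp hπ
  let EH : Extension.{u} R T := { Ring := P', σ := fun x => (hsurj x).choose, algebraMap_σ := fun x => (hsurj x).choose_spec }
  have hJ : EH.ker = Ef.ker.comap π := Ideal.ext fun x => Iff.rfl
  have hsyz : ∀ d : Fin r → Ef.Ring, ∑ k, d k * b k ∈ Ef.ker ^ 2 → ∀ k, d k ∈ Ef.ker := by
    intro d hd k
    rw [sq] at hd
    nth_rw 2 [hspan] at hd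
    obtain ⟨e, he, hsum⟩ := (Submodule.mem_ideal_smul_span_iff_exists_sum _ b _).1 (by rwa [smul_eq_mul])
    rw [Finsupp.sum_fintype _ _ (by simp)] at hsum
    have h0 : ∑ k, (d k - e k) * b k = 0 := by
      simp only [sub_mul, Finset.sum_sub_distrib]
      rw [← hsum]
      simp
    have hm := hb _ h0
    have hle : Submodule.span Ef.Ring {v : Fin r → Ef.Ring | ∃ i j, v = Pi.single i (b j) - Pi.single j (b i)} ≤
        Submodule.pi Set.univ fun _ : Fin r => Ef.ker := by
      rw [Submodule.span_le]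
      rintro _ ⟨i, j, rfl⟩ l -
      simp only [Pi.sub_apply, Pi.single_apply]
      have hbk : ∀ i, b i ∈ Ef.ker := fun i => hspan ▸ Ideal.subset_span ⟨i, rfl⟩
      exact sub_mem (by split_ifs; exacts [hbk j, zero_mem _]) (by split_ifs; exacts [hbk i, zero_mem _])
    have hk : d k - e k ∈ Ef.ker := hle hm k trivial
    simpa using add_mem hk (he k)
  obtain ⟨g, hg, hgind⟩ := exists_gens Eg hfg ebg
  choose bl hbl using fun k => hπ (b k)
  let G : Fin bg → P' := fun i => algebraMap Eg.Ring P' (g i)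
  have hI : RingHom.ker π = Ideal.span (Set.range G) := by
    rw [hker, hg, Ideal.map_span, ← Set.range_comp]
    rfl
  have hGJ : ∀ i, G i ∈ EH.ker := fun i => by
    rw [hJ, Ideal.mem_comap, show π (G i) = 0 from RingHom.mem_ker.1 (hI ▸ Ideal.subset_span ⟨i, rfl⟩)]
    exact zero_mem _
  have hblJ : ∀ k, bl k ∈ EH.ker := fun k => by
    rw [hJ, Ideal.mem_comap, hbl, hspan]
    exact Ideal.subset_span ⟨k, rfl⟩
  let v : Fin (bg + r) → P' := Fin.append G bl
  have hgen : EH.ker = Ideal.span (Set.range v) := by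
    refine le_antisymm (fun w hw => ?_) (Ideal.span_le.2 ?_)
    · rw [hJ, Ideal.mem_comap, hspan] at hw
      obtain ⟨d, hd⟩ := (Submodule.mem_span_range_iff_exists_fun _).1 hw
      choose dl hdl using fun k => hπ (d k)
      have h0 : w - ∑ k, dl k * bl k ∈ RingHom.ker π := by
        rw [RingHom.mem_ker, map_sub, map_sum, ← hd]
        simp [hdl, hbl]
      rw [show w = (w - ∑ k, dl k * bl k) + ∑ k, dl k * bl k by ring]
      refine add_mem ?_ (sum_mem fun k _ => Ideal.mul_mem_left _ _ (Ideal.subset_span ⟨Fin.natAdd bg k, Fin.append_right _ _ _⟩))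
      refine (Ideal.span_le.2 ?_ : Ideal.span (Set.range G) ≤ _) (hI ▸ h0)
      rintro _ ⟨i, rfl⟩
      exact Ideal.subset_span ⟨Fin.castAdd r i, Fin.append_left _ _ _⟩
    · rintro _ ⟨i, rfl⟩
      induction i using Fin.addCases with
      | left i => simpa [v, Fin.append_left] using hGJ i
      | right i => simpa [v, Fin.append_right] using hblJ i
  have hind : ∀ c : Fin (bg + r) → P', ∑ i, c i * v i ∈ EH.ker ^ 2 → ∀ i, c i ∈ EH.ker := by
    intro c hc
    rw [Fin.sum_univ_add] at hc
    simp only [v, Fin.append_left, Fin.append_right] at hc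
    have hG0 : π (∑ i, c (Fin.castAdd r i) * G i) = 0 := by
      rw [← RingHom.mem_ker, hI]
      exact sum_mem fun i _ => Ideal.mul_mem_left _ _ (Ideal.subset_span ⟨i, rfl⟩)
    have hd : ∀ k, c (Fin.natAdd bg k) ∈ EH.ker := by
      intro k
      rw [hJ, Ideal.mem_comap]
      refine hsyz (fun k => π (c (Fin.natAdd bg k))) ?_ k
      have := Ideal.mem_map_of_mem π hc
      rw [map_add, hG0, zero_add, map_sum] at this
      simp only [map_mul, hbl] at this
      refine (?_ : (EH.ker ^ 2).map π ≤ Ef.ker ^ 2) this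
      rw [Ideal.map_pow, hJ]
      exact Ideal.pow_right_mono Ideal.map_comap_le 2
    have h2 : ∑ i, c (Fin.castAdd r i) * G i ∈ EH.ker ^ 2 := by
      have h' : ∑ k, c (Fin.natAdd bg k) * bl k ∈ EH.ker ^ 2 :=
        sum_mem fun k _ => (sq EH.ker).symm ▸ Ideal.mul_mem_mul (hd k) (hblJ k)
      simpa using sub_mem hc h'
    have h3 := S8679.mem_mul_of_mem_sq π hπ b hb EH.ker (hJ.trans (by rw [hspan]))
      (RingHom.mem_ker.2 hG0) h2
    rw [hI] at h3
    obtain ⟨e, he, hsum⟩ := (Submodule.mem_ideal_smul_span_iff_exists_sum _ G _).1 (by rwa [smul_eq_mul])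
    rw [Finsupp.sum_fintype _ _ (by simp)] at hsum
    have hle : Eg.ker.map (algebraMap Eg.Ring P') ≤ EH.ker := fun x hx => by
      rw [hJ, Ideal.mem_comap, show π x = 0 from RingHom.mem_ker.1 (hker ▸ hx)]
      exact zero_mem _
    intro i
    induction i using Fin.addCases with
    | left i =>
      have h0 : ∑ i, (c (Fin.castAdd r i) - e i) * G i = 0 := by
        simp only [sub_mul, Finset.sum_sub_distrib]
        rw [← hsum]
        simp
      simpa using add_mem (hle (mem_map_of_relation hgind _ h0 i)) (he i)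
    | right i => exact hd i
  haveI : FormallySmooth R P' := FormallySmooth.comp R Eg.Ring P'
  refine ⟨EH, inferInstanceAs (FormallySmooth R P'), ?_, exists_cot_basis EH v hgen hind, exists_cot_basis Ef b hspan hsyz⟩
  -- the differentials
  haveI : Module.Free P' Ω[P'⁄Eg.Ring] := Module.Free.of_basis ω'
  have hinj : Function.Injective (KaehlerDifferential.mapBaseChange R Eg.Ring P') := by
    refine (injective_iff_map_eq_zero _).2 fun x hx => ?_
    obtain ⟨z, rfl⟩ := (Algebra.H1Cotangent.exact_δ_mapBaseChange R Eg.Ring P' x).1 hx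
    rw [Subsingleton.elim z 0, map_zero]
  obtain ⟨s, hs⟩ := Module.projective_lifting_property (KaehlerDifferential.map R Eg.Ring P' P') LinearMap.id
    (KaehlerDifferential.map_surjective R Eg.Ring P')
  obtain ⟨θ, -⟩ : ∃ θ : ((P' ⊗[Eg.Ring] Ω[Eg.Ring⁄R]) × Ω[P'⁄Eg.Ring]) ≃ₗ[P'] Ω[P'⁄R], True := by
    refine ⟨LinearEquiv.ofBijective ((KaehlerDifferential.mapBaseChange R Eg.Ring P').coprod s) ⟨?_, ?_⟩, trivial⟩
    · refine (injective_iff_map_eq_zero _).2 fun x hx => ?_
      have h1 := congrArg (KaehlerDifferential.map R Eg.Ring P' P') hx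
      have h2 : KaehlerDifferential.map R Eg.Ring P' P' (KaehlerDifferential.mapBaseChange R Eg.Ring P' x.1) = 0 :=
        (KaehlerDifferential.exact_mapBaseChange_map R Eg.Ring P' _).2 ⟨_, rfl⟩
      rw [LinearMap.coprod_apply, map_add, h2, zero_add, map_zero] at h1
      have h3 : x.2 = 0 := (LinearMap.congr_fun hs x.2).symm.trans h1
      rw [LinearMap.coprod_apply, h3, map_zero, add_zero] at hx
      exact Prod.ext (hinj (hx.trans (map_zero _).symm)) h3
    · intro w
      obtain ⟨u, hu⟩ := (KaehlerDifferential.exact_mapBaseChange_map R Eg.Ring P'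
        (w - s (KaehlerDifferential.map R Eg.Ring P' P' w))).1
        (by rw [map_sub, show KaehlerDifferential.map R Eg.Ring P' P' (s _) = _ from LinearMap.congr_fun hs _]; exact sub_self _)
      exact ⟨(u, KaehlerDifferential.map R Eg.Ring P' P' w), by rw [LinearMap.coprod_apply, hu, sub_add_cancel]⟩
  letI : Algebra Eg.Ring T := ((algebraMap S T).comp (algebraMap Eg.Ring S)).toAlgebra
  haveI : IsScalarTower Eg.Ring S T := IsScalarTower.of_algebraMap_eq fun _ => rfl
  haveI : IsScalarTower Eg.Ring P' T := IsScalarTower.of_algebraMap_eq fun p => by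
    show algebraMap S T (algebraMap Eg.Ring S p) = algebraMap Ef.Ring T (π (algebraMap Eg.Ring P' p))
    rw [hcomm, ← IsScalarTower.algebraMap_apply S Ef.Ring T]
  let e1 : T ⊗[P'] (P' ⊗[Eg.Ring] Ω[Eg.Ring⁄R]) ≃ₗ[T] T ⊗[S] (S ⊗[Eg.Ring] Ω[Eg.Ring⁄R]) :=
    AlgebraTensorModule.cancelBaseChange Eg.Ring P' T T Ω[Eg.Ring⁄R] ≪≫ₗ
      (AlgebraTensorModule.cancelBaseChange Eg.Ring S T T Ω[Eg.Ring⁄R]).symm
  let e2 : T ⊗[P'] Ω[P'⁄R] ≃ₗ[T] (T ⊗[S] (S ⊗[Eg.Ring] Ω[Eg.Ring⁄R])) × (T ⊗[P'] Ω[P'⁄Eg.Ring]) :=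
    AlgebraTensorModule.congr (LinearEquiv.refl T T) θ.symm ≪≫ₗ TensorProduct.prodRight P' T T _ _ ≪≫ₗ
      e1.prodCongr (LinearEquiv.refl T _)
  exact ⟨(((eag.baseChange T).prod (ω'.baseChange T)).map e2.symm).reindex finSumFinEquiv⟩

end Groth.Agent.H1VRD
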