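import Groth.Agent.H1VRD.Comp
import Groth.Agent.KRegLib.Pres
import Groth.Agent.KRegLib.Kinds

/-!
# Additivity of the Euler characteristic over local rings
-/

set_option autoImplicit false
set_option linter.style.haveILetI false
set_option maxHeartbeats 1000000

universe u

open Algebra TensorProduct Groth.Agent

attribute [local instance] MvPolynomial.algebraMvPolynomial

noncomputable section

namespace Groth.Agent.H1VRD

/-- A surjection of rings stays surjective on local rings, with the extended kernel. -/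
theorem localized_surjection {A B A' B' : Type u} [CommRing A] [CommRing B] [CommRing A'] [CommRing B']
    [Algebra A A'] [Algebra B B'] (g : A →+* B) (hg : Function.Surjective g) (p : Ideal A) (q : Ideal B)
    [p.IsPrime] [q.IsPrime] (hpq : q.comap g = p) [IsLocalization.AtPrime A' p] [IsLocalization.AtPrime B' q]
    (ψ : A' →+* B') (hψ : ∀ a, ψ (algebraMap A A' a) = algebraMap B B' (g a)) :
    Function.Surjective ψ ∧ RingHom.ker ψ = (RingHom.ker g).map (algebraMap A A') := by
  subst hpq
  have hM : Submonoid.map g (q.comap g).primeCompl = q.primeCompl := by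
    ext y
    constructor
    · rintro ⟨x, hx, rfl⟩
      exact hx
    · intro hy
      obtain ⟨x, rfl⟩ := hg y
      exact ⟨x, hy, rfl⟩
  haveI : IsLocalization ((q.comap g).primeCompl.map g) B' := by rw [hM]; infer_instance
  have hψ' : ψ = IsLocalization.map B' g (q.comap g).primeCompl.le_comap_map := by
    refine IsLocalization.ringHom_ext (q.comap g).primeCompl (RingHom.ext fun a => ?_)
    rw [RingHom.comp_apply, RingHom.comp_apply, hψ, IsLocalization.map_eq]
  rw [hψ']
  exact ⟨IsLocalization.map_surjective_of_surjective _ A' B' hg, IsLocalization.ker_map B' g rfl⟩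

/-- The Euler characteristic is additive in a composite whose second map is a local complete intersection. -/
theorem chi_add {R S T : Type u} [CommRing R] [CommRing S] [CommRing T] [Algebra R S] [Algebra S T] [Algebra R T]
    [IsScalarTower R S T] [IsLocalRing T] [Nontrivial S]
    {B A : Type u} [CommRing B] [CommRing A] [Algebra B A] (hlci : LCI.IsLCI B A) [Algebra B S] [Algebra A T]
    (M : Submonoid B) [IsLocalization M S] (𝔯 : Ideal A) [𝔯.IsPrime] [IsLocalization.AtPrime T 𝔯]
    (hsq : ∀ b : B, algebraMap A T (algebraMap B A b) = algebraMap S T (algebraMap B S b))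
    (Eg : Extension.{u} R S) [IsLocalRing Eg.Ring] [FormallySmooth R Eg.Ring] (hfg : Eg.ker.FG)
    (Ef : Extension.{u} S T) [FormallySmooth S Ef.Ring] (Eh : Extension.{u} R T) [FormallySmooth R Eh.Ring]
    {af bf ag bg ah bh : ℕ} (eaf : Module.Basis (Fin af) T Ef.CotangentSpace)
    (ebf : Module.Basis (Fin bf) T Ef.Cotangent) (eag : Module.Basis (Fin ag) S Eg.CotangentSpace)
    (ebg : Module.Basis (Fin bg) S Eg.Cotangent) (eah : Module.Basis (Fin ah) T Eh.CotangentSpace)
    (ebh : Module.Basis (Fin bh) T Eh.Cotangent) :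
    (ah : ℤ) - bh = ((af : ℤ) - bf) + ((ag : ℤ) - bg) := by
  classical
  obtain ⟨-, n, φ, hφ, -⟩ := id hlci
  haveI : Algebra.Smooth B (MvPolynomial (Fin n) B) := ⟨inferInstance, inferInstance⟩
  have hK := KRegLib.kReg_of_isLCI hlci φ hφ 𝔯
  let t : Fin n → T := fun i => algebraMap A T (φ (MvPolynomial.X i))
  let ev : MvPolynomial (Fin n) S →ₐ[S] T := MvPolynomial.aeval t
  have hev : ∀ p : MvPolynomial (Fin n) B,
      ev (algebraMap (MvPolynomial (Fin n) B) (MvPolynomial (Fin n) S) p) = algebraMap A T (φ p) := by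
    intro p
    have h : ev.toRingHom.comp (algebraMap (MvPolynomial (Fin n) B) (MvPolynomial (Fin n) S)) =
        (algebraMap A T).comp φ.toRingHom := by
      refine MvPolynomial.ringHom_ext (fun b => ?_) fun i => ?_
      · show ev (MvPolynomial.map (algebraMap B S) (MvPolynomial.C b)) = algebraMap A T (φ (MvPolynomial.C b))
        rw [MvPolynomial.map_C, MvPolynomial.aeval_C, ← MvPolynomial.algebraMap_eq, AlgHom.commutes, hsq]
      · show ev (MvPolynomial.map (algebraMap B S) (MvPolynomial.X i)) = t i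
        rw [MvPolynomial.map_X, MvPolynomial.aeval_X]
    exact RingHom.congr_fun h p
  let 𝔮 : Ideal (MvPolynomial (Fin n) S) := (IsLocalRing.maximalIdeal T).comap ev.toRingHom
  haveI : 𝔮.IsPrime := Ideal.IsPrime.comap _
  let Q := Localization.AtPrime 𝔮
  let ψ : Q →+* T := IsLocalization.lift (M := 𝔮.primeCompl) (g := ev.toRingHom) fun y =>
    IsLocalRing.notMem_maximalIdeal.1 y.2
  have hψ : ∀ p, ψ (algebraMap (MvPolynomial (Fin n) S) Q p) = ev p := fun p => IsLocalization.lift_eq _ p
  letI : Algebra Q T := ψ.toAlgebra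
  haveI : IsScalarTower S Q T := IsScalarTower.of_algebraMap_eq fun s => by
    show algebraMap S T s = ψ (algebraMap S Q s)
    rw [IsScalarTower.algebraMap_apply S (MvPolynomial (Fin n) S) Q, hψ, AlgHom.commutes]
  haveI hQ := IsLocalization.isLocalization_isLocalization_atPrime_isLocalization
    (M.map (MvPolynomial.C (σ := Fin n))) Q 𝔮
  have hcomap : 𝔯.comap φ.toRingHom = 𝔮.comap (algebraMap (MvPolynomial (Fin n) B) (MvPolynomial (Fin n) S)) := by
    ext p
    show φ p ∈ 𝔯 ↔ ev (algebraMap _ _ p) ∈ IsLocalRing.maximalIdeal T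
    rw [hev, IsLocalization.AtPrime.to_map_mem_maximal_iff T 𝔯]
  obtain ⟨hψs, hψk⟩ := localized_surjection φ.toRingHom hφ _ 𝔯 hcomap ψ fun p => by
    rw [IsScalarTower.algebraMap_apply (MvPolynomial (Fin n) B) (MvPolynomial (Fin n) S) Q, hψ, hev]
    rfl
  obtain ⟨g, hgp, hon⟩ := hK.exists_on
  haveI : Module.Flat (MvPolynomial (Fin n) B) Q := IsLocalization.flat Q
    (𝔮.comap (algebraMap (MvPolynomial (Fin n) B) (MvPolynomial (Fin n) S))).primeCompl
  obtain ⟨r, f, hf, hfI⟩ := hon Q (IsLocalization.map_units Q (M := (𝔮.comap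
    (algebraMap (MvPolynomial (Fin n) B) (MvPolynomial (Fin n) S))).primeCompl) ⟨g, fun h => hgp (hcomap.symm ▸ h : g ∈ 𝔯.comap φ.toRingHom)⟩)
  let rs := List.ofFn f
  let b : Fin rs.length → Q := rs.get
  have hb : CAlgX.IsH1Regular b := KRegLib.h1_of_koszul rs (KoszulFlatLib.isKoszulRegularSeq_of_isExact hf)
  let Ef' : Extension.{u} S T := { Ring := Q, σ := fun x => (hψs x).choose, algebraMap_σ := fun x => (hψs x).choose_spec }
  have hspan : Ef'.ker = Ideal.span (Set.range b) := by
    show RingHom.ker ψ = _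
    rw [hψk, hfI]
    congr 1
    ext y
    simp [b, rs]
  -- the lift to the polynomial ring over the extension of `S`
  let m : MvPolynomial (Fin n) Eg.Ring →+* MvPolynomial (Fin n) S := MvPolynomial.map (algebraMap Eg.Ring S)
  have hm : Function.Surjective m := MvPolynomial.map_surjective _ Eg.algebraMap_surjective
  let 𝔭 : Ideal (MvPolynomial (Fin n) Eg.Ring) := 𝔮.comap m
  haveI : 𝔭.IsPrime := Ideal.IsPrime.comap _
  let P' := Localization.AtPrime 𝔭
  let π : P' →+* Q := Localization.localRingHom 𝔭 𝔮 m rfl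
  have hπ : ∀ p, π (algebraMap (MvPolynomial (Fin n) Eg.Ring) P' p) = algebraMap _ Q (m p) := fun p =>
    Localization.localRingHom_to_map 𝔭 𝔮 m rfl p
  obtain ⟨hπs, hπk⟩ := localized_surjection m hm 𝔭 𝔮 rfl π hπ
  haveI : FormallySmooth (MvPolynomial (Fin n) Eg.Ring) P' := FormallySmooth.of_isLocalization 𝔭.primeCompl
  haveI : FormallyEtale (MvPolynomial (Fin n) Eg.Ring) P' := FormallyEtale.of_isLocalization 𝔭.primeCompl
  haveI : FormallySmooth Eg.Ring P' := FormallySmooth.comp Eg.Ring (MvPolynomial (Fin n) Eg.Ring) P'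
  haveI : Module.Flat (MvPolynomial (Fin n) Eg.Ring) P' := IsLocalization.flat P' 𝔭.primeCompl
  haveI : Module.Flat Eg.Ring P' := Module.Flat.trans Eg.Ring (MvPolynomial (Fin n) Eg.Ring) P'
  haveI : FormallySmooth (MvPolynomial (Fin n) S) Q := FormallySmooth.of_isLocalization 𝔮.primeCompl
  haveI : FormallyEtale (MvPolynomial (Fin n) S) Q := FormallyEtale.of_isLocalization 𝔮.primeCompl
  haveI hQs : FormallySmooth S Q := FormallySmooth.comp S (MvPolynomial (Fin n) S) Q
  let ω' : Module.Basis (Fin n) P' Ω[P'⁄Eg.Ring] :=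
    ((KaehlerDifferential.mvPolynomialBasis Eg.Ring (Fin n)).baseChange P').map
      (KaehlerDifferential.tensorKaehlerEquivOfFormallyEtale Eg.Ring (MvPolynomial (Fin n) Eg.Ring) P')
  let ω : Module.Basis (Fin n) Q Ω[Q⁄S] :=
    ((KaehlerDifferential.mvPolynomialBasis S (Fin n)).baseChange Q).map
      (KaehlerDifferential.tensorKaehlerEquivOfFormallyEtale S (MvPolynomial (Fin n) S) Q)
  obtain ⟨EH, hEH, ⟨ea⟩, ⟨eb⟩, ⟨ebf'⟩⟩ := exists_comp (R := R) (S := S) (T := T) Eg hfg eag ebg P' ω' Ef' π hπs
    (fun p => by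
      rw [IsScalarTower.algebraMap_apply Eg.Ring (MvPolynomial (Fin n) Eg.Ring) P', hπ]
      show algebraMap _ Q (m (MvPolynomial.C p)) = algebraMap S Q _
      rw [MvPolynomial.map_C, ← MvPolynomial.algebraMap_eq, ← IsScalarTower.algebraMap_apply])
    (by
      rw [hπk, MvPolynomial.ker_map, Ideal.map_map, ← MvPolynomial.algebraMap_eq, ← IsScalarTower.algebraMap_eq])
    b hb hspan
  haveI := hEH
  haveI : FormallySmooth S Ef'.Ring := hQs
  have h1 := rank_sub_eq Ef Ef' eaf ebf (ω.baseChange T) ebf'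
  have h2 := rank_sub_eq Eh EH eah ebh ea eb
  push_cast at h2
  omega

end Groth.Agent.H1VRD
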