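import Groth.Agent.H1VRD.Alg
import Groth.Agent.H1CNSplit.Stalk
import Groth.Agent.KZ.CycleTensor
import Groth.Prelude.Def_FlatMod2

/-!
# The extension of local rings attached to a factorisation
-/

set_option autoImplicit false
set_option backward.isDefEq.respectTransparency false
set_option backward.isDefEq.respectTransparency.types false
set_option linter.style.haveILetI false
set_option maxHeartbeats 1000000

universe u

open CategoryTheory CategoryTheory.Limits AlgebraicGeometry TopologicalSpace Opposite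
open scoped TensorProduct

noncomputable section

namespace Groth.Agent.H1VRD

open Groth.Agent Groth.Agent.Synt29 OmegaStalk ConormalStalk H1CNSplit
open Groth.Agent.S5974 (Cls cls_exists cls_mem cls_exists_of_mem cls_inj cls_zero_mem_sq cls_eq_zero)

/-- A basis of the stalk from a rank on an open neighbourhood. -/
theorem exists_basis_restrict {X : Scheme.{u}} {M : X.Modules} {n : ℕ} (U : X.Opens)
    (hM : FlatMod.IsFinLocFreeOfRank n ((Scheme.Modules.restrictFunctor U.ι).obj M)) {x : X} (hx : x ∈ U) :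
    Nonempty (Module.Basis (Fin n) (X.presheaf.stalk x) (St M x)) := by
  let u : (U : Scheme.{u}) := ⟨x, hx⟩
  obtain ⟨b⟩ := KZ.CycleClass.exists_basis hM u
  let eA := ((Scheme.Modules.restrictStalkNatIso U.ι u).app M).addCommGroupIsoToAddEquiv
  let φ : X.presheaf.stalk x ≃+* (U : Scheme.{u}).presheaf.stalk u :=
    (asIso (U.ι.stalkMap u)).commRingCatIsoToRingEquiv
  have hA : ∀ (a : X.presheaf.stalk x) (m : St ((Scheme.Modules.restrictFunctor U.ι).obj M) u),
      eA (φ a • m) = ((show X.presheaf.stalk (U.ι u) from a) • (show St M (U.ι u) from eA m) : St M (U.ι u)) :=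
    fun a m => PerfGen7.semilinear_restrictStalk U.ι M u a m
  let e : (Fin n → X.presheaf.stalk x) →ₗ[X.presheaf.stalk x] St M x :=
    { toFun := fun c => eA (b.equivFun.symm fun i => φ (c i))
      map_add' := fun c c' => by
        show eA _ = _
        rw [show (fun i => φ ((c + c') i)) = (fun i => φ (c i)) + fun i => φ (c' i) from funext fun i => map_add φ _ _,
          map_add]
        exact map_add eA _ _
      map_smul' := fun a c => by
        show eA _ = a • (show St M x from eA (b.equivFun.symm fun i => φ (c i)))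
        rw [show (fun i => φ ((a • c) i)) = φ a • fun i => φ (c i) from funext fun i => map_mul φ a (c i),
          map_smul]
        exact hA a _ }
  refine ⟨Module.Basis.ofEquivFun (LinearEquiv.ofBijective e ?_).symm⟩
  exact (eA.bijective.comp b.equivFun.symm.bijective).comp (φ.bijective.comp_left)

/-- The cotangent module of the extension given by the local rings is the stalk of the conormal sheaf. -/
theorem nonempty_conormal {Z V : Scheme.{u}} (i : Z ⟶ V) [IsClosedImmersion i] (x : Z) {R : Type u} [CommRing R]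
    [Algebra R (Z.presheaf.stalk x)] (P : Algebra.Extension.{u} R (Z.presheaf.stalk x))
    (e : P.Ring ≃+* V.presheaf.stalk (i x))
    (he : ∀ p, algebraMap P.Ring (Z.presheaf.stalk x) p = i.stalkMap x (e p)) :
    Nonempty (P.Cotangent ≃ₗ[Z.presheaf.stalk x] St (Omega.conormal i) x) := by
  classical
  have hmem : ∀ p, p ∈ P.ker ↔ i.stalkMap x (e p) = 0 := fun p => by rw [RingHom.mem_ker, he]
  have hsq : P.ker ^ 2 = (RingHom.ker (i.stalkMap x).hom ^ 2).comap e.toRingHom := by
    rw [show P.ker = (RingHom.ker (i.stalkMap x).hom).comap e.toRingHom from Ideal.ext hmem]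
    show ((RingHom.ker (i.stalkMap x).hom).comap e) ^ 2 = ((RingHom.ker (i.stalkMap x).hom) ^ 2).comap e
    rw [← Ideal.map_symm, ← Ideal.map_symm, Ideal.map_pow]
  choose a ha using fun z : St (Omega.conormal i) x => cls_exists i x z
  have hk : ∀ z, e.symm (a z) ∈ P.ker := fun z => (hmem _).2 (by rw [e.apply_symm_apply]; exact cls_mem i (ha z))
  -- two representatives of one class
  have hrep : ∀ z c, Cls i x z c → ∀ hc : e.symm c ∈ P.ker,
      Algebra.Extension.Cotangent.mk ⟨e.symm c, hc⟩ = Algebra.Extension.Cotangent.mk (⟨e.symm (a z), hk z⟩ : P.ker) := by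
    intro z c hz hc
    have h0 := H1CNSplit.cls_sub i hz (ha z)
    rw [sub_self] at h0
    refine Algebra.Extension.Cotangent.ext ((Ideal.toCotangent_eq _).2 ?_)
    rw [hsq, Ideal.mem_comap]
    show e (e.symm c - e.symm (a z)) ∈ _
    rw [map_sub, e.apply_symm_apply, e.apply_symm_apply]
    exact cls_zero_mem_sq i (i.stalkMap_surjective x) h0
  let F : St (Omega.conormal i) x →ₗ[Z.presheaf.stalk x] P.Cotangent :=
    { toFun := fun z => Algebra.Extension.Cotangent.mk ⟨e.symm (a z), hk z⟩
      map_add' := fun z z' => by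
        rw [← map_add]
        refine (hrep _ _ (H1CNSplit.cls_add i (ha z) (ha z')) ?_).symm.trans (congrArg _ (Subtype.ext (map_add e.symm _ _)))
        rw [map_add]
        exact add_mem (hk z) (hk z')
      map_smul' := fun r z => by
        obtain ⟨p, rfl⟩ := P.algebraMap_surjective r
        rw [RingHom.id_apply, algebraMap_smul (Z.presheaf.stalk x) p (Algebra.Extension.Cotangent.mk ⟨_, hk z⟩ : P.Cotangent),
          ← map_smul]
        have hc := H1CNSplit.cls_smul i (ha z) (e p)
        rw [← he] at hc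
        refine (hrep _ _ hc ?_).symm.trans (congrArg _ (Subtype.ext ?_))
        · rw [map_mul, e.symm_apply_apply]
          exact P.ker.mul_mem_left p (hk z)
        · show e.symm (e p * a z) = p • e.symm (a z)
          rw [map_mul, e.symm_apply_apply, smul_eq_mul] }
  refine ⟨(LinearEquiv.ofBijective F ⟨(injective_iff_map_eq_zero F).2 fun z hz => ?_, fun w => ?_⟩).symm⟩
  · refine cls_eq_zero i (ha z) ?_
    have h : e.symm (a z) ∈ P.ker ^ 2 := (Ideal.toCotangent_eq_zero _ _).1 (congrArg Algebra.Extension.Cotangent.val hz)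
    rw [hsq, Ideal.mem_comap] at h
    simpa using h
  · obtain ⟨⟨p, hp⟩, rfl⟩ := Algebra.Extension.Cotangent.mk_surjective w
    obtain ⟨z, hz⟩ := cls_exists_of_mem i x ((hmem p).1 hp)
    refine ⟨z, (hrep z _ hz ?_).symm.trans (congrArg _ (Subtype.ext (e.symm_apply_apply p)))⟩
    rwa [e.symm_apply_apply]

/-- A factorisation through a smooth scheme gives a formally smooth extension of local rings. -/
theorem exists_extension {X Y V : Scheme.{u}} (f : X ⟶ Y) (g : V ⟶ Y) [Smooth g] (i : X ⟶ V)
    [IsClosedImmersion i] (hi : i ≫ g = f) (Ω : V.Modules) (d : OmegaSh.Der g Ω) (hd : OmegaSh.IsUniversal d)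
    (x : X) (a b : ℕ) (U₁ U₂ : X.Opens) (h₁ : x ∈ U₁) (h₂ : x ∈ U₂)
    (ha : FlatMod.IsFinLocFreeOfRank a ((Scheme.Modules.restrictFunctor U₁.ι).obj ((Scheme.Modules.pullback i).obj Ω)))
    (hb : FlatMod.IsFinLocFreeOfRank b ((Scheme.Modules.restrictFunctor U₂.ι).obj (Omega.conormal i))) :
    letI := (f.stalkMap x).hom.toAlgebra
    ∃ (P : Algebra.Extension.{u} (Y.presheaf.stalk (f x)) (X.presheaf.stalk x)),
      Algebra.FormallySmooth (Y.presheaf.stalk (f x)) P.Ring ∧ IsLocalRing P.Ring ∧
      ((RingHom.ker (i.stalkMap x).hom).FG → P.ker.FG) ∧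
      Nonempty (Module.Basis (Fin a) (X.presheaf.stalk x) P.CotangentSpace) ∧
      Nonempty (Module.Basis (Fin b) (X.presheaf.stalk x) P.Cotangent) := by
  subst hi
  letI := ((i ≫ g).stalkMap x).hom.toAlgebra
  let R : Type u := Y.presheaf.stalk (g (i x))
  letI : Algebra R (V.presheaf.stalk (i x)) := (g.stalkMap (i x)).hom.toAlgebra
  letI : Algebra R (X.presheaf.stalk x) := ((i ≫ g).stalkMap x).hom.toAlgebra
  let π : V.presheaf.stalk (i x) →ₐ[R] X.presheaf.stalk x :=
    { (i.stalkMap x).hom with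
      commutes' := fun r => by
        show i.stalkMap x (g.stalkMap (i x) r) = (i ≫ g).stalkMap x r
        rw [Scheme.Hom.stalkMap_comp]
        rfl }
  let P : Algebra.Extension.{u} R (X.presheaf.stalk x) :=
    Algebra.Extension.ofSurjective π (i.stalkMap_surjective x)
  refine ⟨P, ?_, inferInstanceAs (IsLocalRing (V.presheaf.stalk (i x))), fun h => h, ?_, ?_⟩
  · exact Scheme.Hom.mem_smoothLocus.1 (show i x ∈ g.smoothLocus by rw [Scheme.Hom.smoothLocus_eq_top]; trivial)
  · obtain ⟨β⟩ := exists_basis_restrict U₁ ha h₁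
    haveI := isIso_toStalk hd (i x)
    exact ⟨β.map ((KFlatLib.stalkPullbackIso i x).app Ω ≪≫
      (ModuleCat.extendScalars (i.stalkMap x).hom).mapIso (asIso (toStalk d (i x))).symm).toLinearEquiv⟩
  · obtain ⟨β⟩ := exists_basis_restrict U₂ hb h₂
    obtain ⟨e⟩ := nonempty_conormal i x P (RingEquiv.refl _) fun _ => rfl
    exact ⟨β.map e.symm⟩

/-- The virtual relative dimension does not depend on the factorisation. -/
theorem vrd_eq {X Y V V' : Scheme.{u}} (f : X ⟶ Y)
    (g : V ⟶ Y) [Smooth g] (i : X ⟶ V) [IsClosedImmersion i] (hi : i ≫ g = f)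
    (g' : V' ⟶ Y) [Smooth g'] (i' : X ⟶ V') [IsClosedImmersion i'] (hi' : i' ≫ g' = f)
    (Ω : V.Modules) (d : OmegaSh.Der g Ω) (hd : OmegaSh.IsUniversal d)
    (Ω' : V'.Modules) (d' : OmegaSh.Der g' Ω') (hd' : OmegaSh.IsUniversal d')
    (x : X) (a b a' b' : ℕ) (U₁ U₂ U₃ U₄ : X.Opens) (h₁ : x ∈ U₁) (h₂ : x ∈ U₂) (h₃ : x ∈ U₃) (h₄ : x ∈ U₄)
    (ha : FlatMod.IsFinLocFreeOfRank a ((Scheme.Modules.restrictFunctor U₁.ι).obj ((Scheme.Modules.pullback i).obj Ω)))
    (hb : FlatMod.IsFinLocFreeOfRank b ((Scheme.Modules.restrictFunctor U₂.ι).obj (Omega.conormal i)))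
    (ha' : FlatMod.IsFinLocFreeOfRank a' ((Scheme.Modules.restrictFunctor U₃.ι).obj ((Scheme.Modules.pullback i').obj Ω')))
    (hb' : FlatMod.IsFinLocFreeOfRank b' ((Scheme.Modules.restrictFunctor U₄.ι).obj (Omega.conormal i'))) :
    (a : ℤ) - b = (a' : ℤ) - b' := by
  letI := (f.stalkMap x).hom.toAlgebra
  obtain ⟨P, hP, -, -, ⟨ea⟩, ⟨eb⟩⟩ := exists_extension f g i hi Ω d hd x a b U₁ U₂ h₁ h₂ ha hb
  obtain ⟨P', hP', -, -, ⟨ea'⟩, ⟨eb'⟩⟩ := exists_extension f g' i' hi' Ω' d' hd' x a' b' U₃ U₄ h₃ h₄ ha' hb'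
  haveI := hP
  haveI := hP'
  exact rank_sub_eq P P' ea eb ea' eb'

end Groth.Agent.H1VRD
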